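import Groth.Agent.Lib.AlphaBij.Sections
import Mathlib.RingTheory.GradedAlgebra.Homogeneous.Ideal

/-!
# Eventual generation of a graded module in degree one steps
-/

universe u

open DirectSum

noncomputable section

namespace Groth.Agent.Lib.AlphaBij.Generate

variable {A σ : Type u} [CommRing A] [SetLike σ A] [AddSubgroupClass σ A] (𝒜 : ℕ → σ) [GradedRing 𝒜]

/-- The span of the products `ab`, `a ∈ 𝒜 p`, `b ∈ 𝒜 q`. -/
def prodSpan (p q : ℕ) : AddSubgroup A :=
  AddSubgroup.closure {x | ∃ a ∈ 𝒜 p, ∃ b ∈ 𝒜 q, a * b = x}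

theorem mem_prodSpan_succ (hgen : (HomogeneousIdeal.irrelevant 𝒜).toIdeal = Ideal.span (𝒜 1 : Set A))
    (n : ℕ) {x : A} (hx : x ∈ 𝒜 (n + 1)) : x ∈ prodSpan 𝒜 1 n := by
  classical
  have hmem : x ∈ Ideal.span (𝒜 1 : Set A) := by
    rw [← hgen, HomogeneousIdeal.toIdeal, HomogeneousIdeal.irrelevant]
    show GradedRing.proj 𝒜 0 x = 0
    rw [GradedRing.proj_apply, DirectSum.decompose_of_mem_ne 𝒜 hx (Nat.succ_ne_zero n)]
  suffices key : ∀ y ∈ Ideal.span (𝒜 1 : Set A), ∀ r : A,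
      GradedRing.proj 𝒜 (n + 1) (r * y) ∈ prodSpan 𝒜 1 n by
    have := key x hmem 1
    rwa [one_mul, GradedRing.proj_apply, DirectSum.decompose_of_mem_same 𝒜 hx] at this
  intro y hy
  induction hy using Submodule.span_induction with
  | mem s hs =>
    intro r
    rw [GradedRing.proj_apply, DirectSum.coe_decompose_mul_of_right_mem_of_le 𝒜 hs (by omega)]
    exact AddSubgroup.subset_closure ⟨s, hs, _, (decompose 𝒜 r n).2, mul_comm _ _⟩
  | zero => intro r; rw [mul_zero, map_zero]; exact zero_mem _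
  | add a b _ _ ha hb => intro r; rw [mul_add, map_add]; exact add_mem (ha r) (hb r)
  | smul c a _ ha => intro r; rw [smul_eq_mul, ← mul_assoc]; exact ha (r * c)

theorem mem_prodSpan (hgen : (HomogeneousIdeal.irrelevant 𝒜).toIdeal = Ideal.span (𝒜 1 : Set A))
    (q : ℕ) : ∀ (p : ℕ) {x : A}, x ∈ 𝒜 (p + q) → x ∈ prodSpan 𝒜 p q
  | 0, x, hx => AddSubgroup.subset_closure
      ⟨1, SetLike.one_mem_graded 𝒜, x, by rwa [Nat.zero_add] at hx, one_mul x⟩
  | p + 1, x, hx => by
    rw [Nat.add_right_comm] at hx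
    have h1 := mem_prodSpan_succ 𝒜 hgen (p + q) hx
    clear hx
    induction h1 using AddSubgroup.closure_induction with
    | mem w hw =>
      obtain ⟨a, ha, b, hb, rfl⟩ := hw
      have h2 := mem_prodSpan hgen q p hb
      clear hb
      induction h2 using AddSubgroup.closure_induction with
      | mem v hv =>
        obtain ⟨c, hc, d, hd, rfl⟩ := hv
        refine AddSubgroup.subset_closure ⟨a * c, ?_, d, hd, mul_assoc a c d⟩
        rw [Nat.add_comm p 1]
        exact SetLike.mul_mem_graded ha hc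
      | zero => rw [mul_zero]; exact zero_mem _
      | add _ _ _ _ h1 h2 => rw [mul_add]; exact add_mem h1 h2
      | neg _ _ h1 => rw [mul_neg]; exact neg_mem h1
    | zero => exact zero_mem _
    | add _ _ _ _ h1 h2 => exact add_mem h1 h2
    | neg _ _ h1 => exact neg_mem h1

variable {M τ : Type u} [AddCommGroup M] [Module A M] [SetLike τ M] [AddSubgroupClass τ M] (ℳ : ℕ → τ)
  [SetLike.GradedSMul 𝒜 ℳ] [DirectSum.Decomposition ℳ]

/-- The span of the products `a • x`, `a ∈ 𝒜 e`, `x ∈ ℳ k`. -/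
def smulSpan (e k : ℕ) : AddSubgroup M :=
  AddSubgroup.closure {y | ∃ a ∈ 𝒜 e, ∃ x ∈ ℳ k, a • x = y}

theorem decompose_smul_mem {i : ℕ} {x : M} (hx : x ∈ ℳ i) (c : A) (n : ℕ) :
    ∃ c' ∈ 𝒜 (n - i), ((decompose ℳ (c • x) n : ℳ n) : M) = if i ≤ n then c' • x else 0 := by
  classical
  refine ⟨_, (decompose 𝒜 c (n - i)).2, ?_⟩
  induction c using DirectSum.Decomposition.inductionOn 𝒜 with
  | zero => simp
  | homogeneous c =>
    rename_i j
    have hcx : (c : A) • x ∈ ℳ (j + i) := SetLike.GradedSMul.smul_mem c.2 hx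
    by_cases hn : j + i = n
    · subst hn
      rw [DirectSum.decompose_of_mem_same ℳ hcx, if_pos (by omega), Nat.add_sub_cancel,
        DirectSum.decompose_of_mem_same 𝒜 c.2]
    · rw [DirectSum.decompose_of_mem_ne ℳ hcx hn]
      split_ifs with h
      · rw [DirectSum.decompose_of_mem_ne 𝒜 c.2 (by omega), zero_smul]
      · rfl
  | add a b ha hb =>
    simp only [add_smul, DirectSum.decompose_add, DirectSum.add_apply, AddMemClass.coe_add, ha, hb]
    split_ifs <;> simp [add_smul]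

/-- Eventually `ℳ (k + e)` is generated by `𝒜 e • ℳ k`. -/
theorem exists_bound (hgen : (HomogeneousIdeal.irrelevant 𝒜).toIdeal = Ideal.span (𝒜 1 : Set A))
    (hTF : ∃ k : ℕ, (Submodule.span A (⋃ i ∈ Set.Ici k, (ℳ i : Set M))).FG) :
    ∃ K : ℕ, ∀ k : ℕ, K ≤ k → ∀ (e : ℕ) (m : M), m ∈ ℳ (k + e) → m ∈ smulSpan 𝒜 ℳ e k := by
  classical
  obtain ⟨k₀, hk⟩ := hTF
  obtain ⟨t, ht⟩ := hk
  -- finitely many homogeneous elements suffice
  have hfin : ∀ g ∈ t, ∃ S : Finset M, (S : Set M) ⊆ (⋃ i ∈ Set.Ici k₀, (ℳ i : Set M)) ∧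
      g ∈ Submodule.span A (S : Set M) := fun g hg =>
    Submodule.mem_span_finite_of_mem_span (ht ▸ Submodule.subset_span hg)
  choose S hS hgS using hfin
  let T : Finset M := t.attach.biUnion fun g => S g.1 g.2
  have hspan : (⋃ i ∈ Set.Ici k₀, (ℳ i : Set M)) ⊆ Submodule.span A (T : Set M) := by
    refine Set.Subset.trans (Submodule.subset_span (R := A)) ?_
    rw [← ht]
    refine Submodule.span_le.2 fun g hg => ?_
    refine Submodule.span_mono ?_ (hgS g hg)
    intro y hy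
    exact Finset.mem_biUnion.2 ⟨⟨g, hg⟩, Finset.mem_attach _ _, hy⟩
  have hdeg : ∀ y ∈ T, ∃ i, y ∈ ℳ i := fun y hy => by
    obtain ⟨g, -, hyg⟩ := Finset.mem_biUnion.1 hy
    obtain ⟨i, -, hi⟩ := Set.mem_iUnion₂.1 (hS g.1 g.2 hyg)
    exact ⟨i, hi⟩
  choose d hd using hdeg
  refine ⟨k₀ + T.attach.sup (fun y => d y.1 y.2), fun k hkk e m hm => ?_⟩
  have hmT : m ∈ Submodule.span A (T : Set M) :=
    hspan (Set.mem_iUnion₂.2 ⟨k + e, show k₀ ≤ k + e by omega, hm⟩)
  suffices key : ∀ y ∈ Submodule.span A (T : Set M), ∀ c : A,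
      ((decompose ℳ (c • y) (k + e) : ℳ (k + e)) : M) ∈ smulSpan 𝒜 ℳ e k by
    have := key m hmT 1
    rwa [one_smul, DirectSum.decompose_of_mem_same ℳ hm] at this
  intro y hy
  induction hy using Submodule.span_induction with
  | mem y hy =>
    intro c
    have hdy : d y hy ≤ k := le_trans (le_trans
      (Finset.le_sup (f := fun y : {x // x ∈ T} => d y.1 y.2) (Finset.mem_attach T ⟨y, hy⟩))
      (Nat.le_add_left _ _)) hkk
    obtain ⟨c', hc', heq⟩ := decompose_smul_mem 𝒜 ℳ (hd y hy) c (k + e)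
    rw [heq, if_pos (by omega)]
    have hc'' := mem_prodSpan 𝒜 hgen (k - d y hy) e (x := c')
      (by rwa [show e + (k - d y hy) = k + e - d y hy by omega])
    clear hc' heq
    induction hc'' using AddSubgroup.closure_induction with
    | mem w hw =>
      obtain ⟨a, ha, b, hb, rfl⟩ := hw
      refine AddSubgroup.subset_closure ⟨a, ha, b • y, ?_, smul_smul a b y⟩
      have h2 : b • y ∈ ℳ ((k - d y hy) + d y hy) := SetLike.GradedSMul.smul_mem hb (hd y hy)
      rwa [Nat.sub_add_cancel hdy] at h2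
    | zero => rw [zero_smul]; exact zero_mem _
    | add _ _ _ _ h1 h2 => rw [add_smul]; exact add_mem h1 h2
    | neg _ _ h1 => rw [neg_smul]; exact neg_mem h1
  | zero => intro c; rw [smul_zero, DirectSum.decompose_zero]; exact zero_mem _
  | add a b _ _ ha hb =>
    intro c
    rw [smul_add, DirectSum.decompose_add, DirectSum.add_apply, AddMemClass.coe_add]
    exact add_mem (ha c) (hb c)
  | smul r a _ ha => intro c; rw [smul_smul]; exact ha (c * r)

end Groth.Agent.Lib.AlphaBij.Generate
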